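import Cfsg.Agent.H106.RC.Cover
import Cfsg.Agent.AutOrth.Final
import Cfsg.Agent.GenOrth.Emb

/-!
# S3510, orthogonal rows: lifts of the elements of `G` to semisimilitudes

`Rep Q N ρ` : `ρ : E Q →* G` has image `N` and kernel the centre.
`Lf ρ x M` : the semisimilitude `M` induces on `E Q` the automorphism induced by `x`.
-/

set_option autoImplicit false
open Cfsg

namespace Cfsg.Agent.H93.RC

open QuadraticMap MulAction
open Cfsg.Agent.LieClassical.OrthCore Cfsg.Agent.LieClassical.OrthTrans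
open Cfsg.Agent.LieClassical.OrthSimple Cfsg.Agent.ClassicalGeometry.OrthSemi
open Cfsg.Agent.ClassicalGeometry.OrthAut1 Cfsg.Agent.H106.RC

variable {F V : Type*} [Field F] [AddCommGroup V] [Module F V] {Q : QuadraticForm F V}

/-- elements of `E Q` as semisimilitudes -/
def tg (Q : QuadraticForm F V) : ↥(E Q) →* Gam Q where
  toFun t := ⟨(t : V ≃ₗ[F] V).toEquiv, RingEquiv.refl F, 1, one_ne_zero,
    fun u v => map_add (t : V ≃ₗ[F] V) u v, fun a v => map_smul (t : V ≃ₗ[F] V) a v, fun v => by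
      rw [one_mul]
      have h := E_le_O t.2
      exact h v⟩
  map_one' := Subtype.ext (Equiv.ext fun _ => rfl)
  map_mul' s t := Subtype.ext (Equiv.ext fun _ => rfl)

theorem tg_apply (t : ↥(E Q)) (v : V) : (tg Q t).1 v = (t : V ≃ₗ[F] V) v := rfl

/-- the semisimilitude is a scalar -/
def IsScal (M : Gam Q) : Prop := ∃ a : F, a ≠ 0 ∧ ∀ v, M.1 v = a • v

/-- the semisimilitude acts as a scalar on `W` -/
def ScalOn (M : Gam Q) (W : Submodule F V) : Prop := ∃ a : F, a ≠ 0 ∧ ∀ v ∈ W, M.1 v = a • v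

/-- the semisimilitude is linear -/
def IsLin (M : Gam Q) : Prop := ∀ (a : F) (v : V), M.1 (a • v) = a • M.1 v

variable {G : Type*} [Group G]

/-- `ρ` is a homomorphism of `E Q` onto `N` with kernel the centre -/
structure Rep (Q : QuadraticForm F V) (N : Subgroup G) (ρ : ↥(E Q) →* G) : Prop where
  range : ρ.range = N
  ker : ρ.ker = Subgroup.center ↥(E Q)

/-- the semisimilitude `M` is a lift of `x` -/
def Lf (ρ : ↥(E Q) →* G) (x : G) (M : Gam Q) : Prop :=
  ∀ t : ↥(E Q), x * ρ t * x⁻¹ = ρ (conjE Q M t)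

section lift

variable {ρ : ↥(E Q) →* G} {x y : G} {M L : Gam Q}

theorem Lf.one : Lf ρ 1 (1 : Gam Q) := by
  intro t
  rw [map_one]
  simp

theorem Lf.mul (h : Lf ρ x M) (h' : Lf ρ y L) : Lf ρ (x * y) (M * L) := by
  intro t
  rw [map_mul, MulAut.mul_apply, ← h, ← h']
  group

theorem Lf.inv (h : Lf ρ x M) : Lf ρ x⁻¹ M⁻¹ := by
  intro t
  have h1 := h (conjE Q M⁻¹ t)
  have h2 : conjE Q M (conjE Q M⁻¹ t) = t := by
    rw [← MulAut.mul_apply, ← map_mul, mul_inv_cancel, map_one]; rfl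
  rw [h2] at h1
  rw [← h1]
  group

theorem Lf.pow (h : Lf ρ x M) (n : ℕ) : Lf ρ (x ^ n) (M ^ n) := by
  induction n with
  | zero => rw [pow_zero, pow_zero]; exact Lf.one
  | succ n ih => rw [pow_succ, pow_succ]; exact ih.mul h

theorem conjE_tg (s t : ↥(E Q)) : conjE Q (tg Q s) t = s * t * s⁻¹ := by
  apply Subtype.ext
  rw [coe_conjE]
  ext v
  rw [conjLin_apply]
  rfl

theorem Lf.tg (s : ↥(E Q)) : Lf ρ (ρ s) (tg Q s) := by
  intro t
  rw [conjE_tg, map_mul, map_mul, map_inv]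

/-- a scalar semisimilitude is trivial on `E Q` -/
theorem conjE_of_scal (h : IsScal M) : conjE Q M = 1 := by
  obtain ⟨a, ha, h⟩ := h
  ext t v
  show (conjLin M t.1) v = t.1 v
  obtain ⟨v, rfl⟩ := M.1.surjective v
  rw [conjLin_apply', h, h, map_smul]

/-- the lift of `x` is a scalar iff `x` centralises `N` -/
theorem Lf.scal_iff (hG : Good Q) {N : Subgroup G} (hρ : Rep Q N ρ) (h : Lf ρ x M) :
    IsScal M ↔ ∀ t : ↥(E Q), x * ρ t = ρ t * x := by
  constructor
  · intro hs t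
    have h1 := h t
    rw [conjE_of_scal hs] at h1
    exact mul_inv_eq_iff_eq_mul.1 h1
  · intro hx
    have h1 : ∀ t : ↥(E Q), ρ (conjE Q M t) = ρ t := by
      intro t
      rw [← h t, hx t, mul_inv_cancel_right]
    have h2 : Psi Q M = 1 := by
      ext t
      obtain ⟨t, rfl⟩ := QuotientGroup.mk_surjective t
      rw [Psi_mk]
      show (QuotientGroup.mk (conjE Q M t) : P Q) = QuotientGroup.mk t
      rw [eq_comm, QuotientGroup.eq, ← hρ.ker, MonoidHom.mem_ker, map_mul, map_inv, h1]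
      group
    have h3 : conjE Q M = 1 := eq_one_of_quotAut (commutator_E hG) _ h2
    exact exists_scalar_of_conjE hG M h3

/-- `x = 1` iff the lift is a scalar -/
theorem Lf.eq_one_iff (hG : Good Q) {N : Subgroup G} {Ω : Type*} [MulAction G Ω] (hE : Env G Ω N)
    (hρ : Rep Q N ρ) (h : Lf ρ x M) : x = 1 ↔ IsScal M := by
  rw [h.scal_iff hG hρ]
  constructor
  · rintro rfl t
    simp
  · intro hx
    have h1 : x ∈ Subgroup.centralizer (N : Set G) := by
      rw [Subgroup.mem_centralizer_iff]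
      intro n hn
      have hn' : n ∈ N := hn
      rw [← hρ.range] at hn'
      obtain ⟨t, rfl⟩ := hn'
      exact (hx t).symm
    rw [hE.cent] at h1
    exact Subgroup.mem_bot.1 h1

/-- lifts of commuting elements commute up to a scalar -/
theorem Lf.comm (hG : Good Q) {N : Subgroup G} (hρ : Rep Q N ρ) (h : Lf ρ x M) (h' : Lf ρ y L)
    (hxy : x * y = y * x) : ∃ a : F, a ≠ 0 ∧ ∀ v, M.1 (L.1 v) = a • L.1 (M.1 v) := by
  have h1 : Lf ρ (x * y * (y * x)⁻¹) (M * L * (L * M)⁻¹) := (h.mul h').mul (h'.mul h).inv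
  rw [hxy, mul_inv_cancel] at h1
  have h2 : IsScal (M * L * (L * M)⁻¹) := (h1.scal_iff hG hρ).2 fun t => by simp
  obtain ⟨a, ha, h2⟩ := h2
  refine ⟨a, ha, fun v => ?_⟩
  have h3 := h2 ((L * M).1 v)
  have h4 : (M * L * (L * M)⁻¹).1 ((L * M).1 v) = M.1 (L.1 v) := by
    show (M * L).1 ((L * M).1⁻¹ ((L * M).1 v)) = _
    rw [inv_apply]; rfl
  rw [h4] at h3
  exact h3

/-- the powers -/
theorem Lf.pow_scal (hG : Good Q) {N : Subgroup G} (hρ : Rep Q N ρ) (h : Lf ρ x M) {r : ℕ}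
    (hx : x ^ r = 1) : IsScal (M ^ r) := by
  refine ((h.pow r).scal_iff hG hρ).2 fun t => ?_
  rw [hx, one_mul, mul_one]

/-- every element has a lift if `Psi Q` is surjective -/
theorem exists_Lf {N : Subgroup G} (hN : N.Normal) (hρ : Rep Q N ρ)
    (hs : Function.Surjective (Psi Q)) (x : G) : ∃ M : Gam Q, Lf ρ x M := by
  classical
  -- the isomorphism `P Q ≃ N`
  have hmem : ∀ t, ρ t ∈ N := fun t => by rw [← hρ.range]; exact ⟨t, rfl⟩
  let ρN : ↥(E Q) →* N := ρ.codRestrict N hmem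
  have hρNs : Function.Surjective ρN := by
    rintro ⟨n, hn⟩
    have hn' := hn
    rw [← hρ.range] at hn'
    obtain ⟨t, ht⟩ := hn'
    exact ⟨t, Subtype.ext ht⟩
  have hρNk : ρN.ker = Subgroup.center ↥(E Q) := by
    rw [← hρ.ker]
    ext t
    rw [MonoidHom.mem_ker, MonoidHom.mem_ker]
    exact ⟨fun h => congrArg Subtype.val h, fun h => Subtype.ext h⟩
  let e : P Q ≃* N := (QuotientGroup.quotientMulEquivOfEq hρNk.symm).trans
    (QuotientGroup.quotientKerEquivOfSurjective ρN hρNs)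
  have he : ∀ t : ↥(E Q), (e (QuotientGroup.mk t) : G) = ρ t := fun t => rfl
  let c : MulAut N := MulAut.conjNormal x
  obtain ⟨M, hM⟩ := hs (MulAut.congr e.symm c)
  refine ⟨M, fun t => ?_⟩
  have h1 : (Psi Q M) (QuotientGroup.mk t) = e.symm (c (e (QuotientGroup.mk t))) := by
    rw [hM]; rfl
  rw [Psi_mk] at h1
  have h2 := congrArg e h1
  rw [MulEquiv.apply_symm_apply] at h2
  have h3 := congrArg (Subtype.val) h2
  rw [he] at h3
  rw [h3]
  show x * ρ t * x⁻¹ = _
  rw [MulAut.conjNormal_apply, he]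

/-- existence of `ρ` -/
theorem exists_rep {N : Subgroup G} {S : Type*} [Group S] (e : N ≃* S) (f : S ≃* P Q) :
    ∃ ρ : ↥(E Q) →* G, Rep Q N ρ := by
  let g : P Q ≃* N := (e.trans f).symm
  refine ⟨N.subtype.comp (g.toMonoidHom.comp (QuotientGroup.mk' _)), ?_, ?_⟩
  · rw [MonoidHom.range_comp, MonoidHom.range_eq_top.2, ← MonoidHom.range_eq_map,
      Subgroup.range_subtype]
    exact g.surjective.comp (QuotientGroup.mk'_surjective _)
  · ext t
    rw [MonoidHom.mem_ker]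
    show ((g (QuotientGroup.mk t) : N) : G) = 1 ↔ _
    rw [OneMemClass.coe_eq_one, EmbeddingLike.map_eq_one_iff, QuotientGroup.eq_one_iff]

end lift

end Cfsg.Agent.H93.RC
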