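import Cfsg.Agent.H721.RC.EvenStmt
import Cfsg.Agent.H595.RC.G1
import Cfsg.Agent.H93.RC.Odd

/-!
# S3510, row F, even dimension: box H

The semisimple part of the family is not homogeneous: assembly of G1, B, C, D5, D4m, D4p.
-/

set_option autoImplicit false
open Cfsg

namespace Cfsg.Agent.H93.RC

open QuadraticMap MulAction
open Cfsg.Agent.LieClassical.OrthCore Cfsg.Agent.LieClassical.OrthTrans
open Cfsg.Agent.LieClassical.OrthSimple Cfsg.Agent.ClassicalGeometry.OrthSemi
open Cfsg.Agent.ClassicalGeometry.OrthAut1 Cfsg.Agent.H106.RC Cfsg.Agent.H138.RC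

section lin

variable {F V : Type*} [Field F] [AddCommGroup V] [Module F V] {Q : QuadraticForm F V}

/-- totally singular subspaces have dimension at most `n / 2` -/
theorem two_fin [FiniteDimensional F V] (hQ : Nondeg Q) {U : Submodule F V} (hU : ∀ v ∈ U, Q v = 0) :
    2 * Module.finrank F U ≤ Module.finrank F V := by
  obtain ⟨φ, hφ⟩ : ∃ φ : V →ₗ[F] Module.Dual F U, φ = U.dualRestrict.comp (polarBilin Q) := ⟨_, rfl⟩
  have h1 : Function.Injective (polarBilin Q : V →ₗ[F] Module.Dual F V) := by
    rw [← LinearMap.ker_eq_bot, LinearMap.ker_eq_bot']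
    intro v hv
    apply hQ
    intro y
    exact LinearMap.congr_fun hv y
  have h2 : Function.Surjective (polarBilin Q : V →ₗ[F] Module.Dual F V) :=
    (LinearMap.injective_iff_surjective_of_finrank_eq_finrank Subspace.dual_finrank_eq.symm).1 h1
  have h3 : Function.Surjective φ := by
    rw [hφ, LinearMap.coe_comp]
    exact (Subspace.dualRestrict_surjective).comp h2
  have h4 := LinearMap.finrank_range_add_finrank_ker φ
  rw [LinearMap.range_eq_top.2 h3, finrank_top, Subspace.dual_finrank_eq] at h4
  have h5 : U ≤ LinearMap.ker φ := by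
    intro u hu
    rw [LinearMap.mem_ker, hφ]
    ext w
    show polar Q u w = 0
    rw [polar, hU _ (U.add_mem hu w.2), hU _ hu, hU _ w.2]
    simp
  have h6 := Submodule.finrank_mono h5
  omega

theorem polar_ts {U : Submodule F V} (hU : ∀ v ∈ U, Q v = 0) {u v : V} (hu : u ∈ U) (hv : v ∈ U) :
    polar Q u v = 0 := by
  rw [polar, hU _ (U.add_mem hu hv), hU _ hu, hU _ hv]
  simp

theorem polar_O {f : V ≃ₗ[F] V} (hf : f ∈ O Q) (u v : V) : polar Q (f u) (f v) = polar Q u v := by
  rw [polar, polar, ← map_add, hf, hf, hf]

/-- an element of `W'` orthogonal to `W` is zero -/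
theorem zero_of_perp (hQ : Nondeg Q) {W W' : Submodule F V} (hc : IsCompl W W')
    (hW' : ∀ v ∈ W', Q v = 0) {x : V} (hx : x ∈ W') (h : ∀ w ∈ W, polar Q w x = 0) : x = 0 := by
  apply hQ
  intro y
  have hy : y ∈ W ⊔ W' := by rw [hc.sup_eq_top]; trivial
  obtain ⟨w, hw, w', hw', rfl⟩ := Submodule.mem_sup.1 hy
  rw [polar_add_right, polar_ts hW' hx hw', polar_comm, h w hw, add_zero]

/-- an isometry trivial on `W` and preserving `W'` is trivial -/
theorem eq_one_of_W (hQ : Nondeg Q) {W W' : Submodule F V} (hc : IsCompl W W')
    (hW' : ∀ v ∈ W', Q v = 0) {f : V ≃ₗ[F] V} (hf : f ∈ O Q) (hfW' : ∀ v ∈ W', f v ∈ W')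
    (h : ∀ w ∈ W, f w = w) : f = 1 := by
  have h1 : ∀ w' ∈ W', f w' = w' := by
    intro w' hw'
    have h2 : f w' - w' = 0 := by
      refine zero_of_perp hQ hc hW' (W'.sub_mem (hfW' _ hw') hw') fun w hw => ?_
      rw [polar_sub_right, sub_eq_zero]
      conv_lhs => rw [← h w hw]
      exact polar_O hf w w'
    exact sub_eq_zero.1 h2
  ext y
  have hy : y ∈ W ⊔ W' := by rw [hc.sup_eq_top]; trivial
  obtain ⟨w, hw, w', hw', rfl⟩ := Submodule.mem_sup.1 hy
  rw [map_add, h w hw, h1 w' hw']
  rfl

/-- a map of prime order without nonzero fixed vectors on a finite subspace -/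
theorem card_modEq [Finite V] {T : V ≃ₗ[F] V} {r : ℕ} (hr : r.Prime) (hT : T ^ r = 1)
    (K : Submodule F V) (hK : ∀ v ∈ K, T v ∈ K) (h0 : ∀ v ∈ K, T v = v → v = 0) :
    Nat.card K ≡ 1 [MOD r] := by
  classical
  have hfr : Fact r.Prime := ⟨hr⟩
  have := Fintype.ofFinite K
  let f : Function.End K := fun v => ⟨T v, hK v v.2⟩
  have hpow : ∀ (n : ℕ) (v : K), (((f ^ n) v : K) : V) = (T ^ n) (v : V) := by
    intro n
    induction n with
    | zero => intro v; rfl
    | succ n ih =>
      intro v
      rw [pow_succ, pow_succ]
      show (((f ^ n) (f v) : K) : V) = (T ^ n) (T (v : V))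
      rw [ih]
  have hf : f ^ r ^ 1 = 1 := by
    funext v
    apply Subtype.ext
    rw [pow_one, hpow, hT]
    rfl
  have h1 := Equiv.Perm.card_fixedPoints_modEq hf
  have h2 : Fintype.card (Function.fixedPoints f) = 1 := by
    rw [Fintype.card_eq_one_iff]
    refine ⟨⟨0, ?_⟩, ?_⟩
    · apply Subtype.ext
      show T (0 : V) = 0
      exact map_zero _
    · rintro ⟨v, hv⟩
      apply Subtype.ext
      apply Subtype.ext
      have h3 : f v = v := hv
      exact h0 v v.2 (congrArg Subtype.val h3)
  rw [h2, ← Nat.card_eq_fintype_card] at h1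
  exact h1

end lin

section main

variable {F V G Ω : Type} [Field F] [Finite F] [AddCommGroup V] [Module F V] [FiniteDimensional F V]
  {Q : QuadraticForm F V} [Group G] [Finite G] [MulAction G Ω] [Nonempty Ω] {N : Subgroup G}
  {ρ : ↥(E Q) →* G}

open Cfsg.Agent.H721.RC in
/-- **Box H** for `V` -/
theorem box_H_core (hB : BoxB) (hC : BoxC) (hD5 : BoxD5) (hD4m : BoxD4m) (hD4p : BoxD4p)
    (hG : Good Q) (hE : Env G Ω N) (hρ : Rep Q N ρ) (hIH : IH (Nat.card (P Q)))
    {p : ℕ} [CharP F p] {ι : Type} [Finite ι] {x : ι → G} {M : ι → Gam Q} {r : ι → ℕ}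
    (hl : ∀ i, Lf ρ (x i) (M i)) (hx : PF x r) (hcov : Cov Ω x)
    (h8 : 8 ≤ Module.finrank F V) (heven : Even (Module.finrank F V))
    (T : ι → V ≃ₗ[F] V) (hTO : ∀ i, T i ∈ O Q) (hTM : ∀ i v, (M i).1 v = T i v)
    (hTr : ∀ i, T i ^ r i = 1) (hTc : ∀ i j, T i * T j = T j * T i) :
    ∃ D : Submodule F V, D ≠ ⊥ ∧ D ≠ ⊤ ∧ Nondeg (Q.comp D.subtype) ∧
      BicInv (fun i : {i : ι // r i ≠ p} => T i) D := by
  classical
  by_contra hnoD
  have hpp : p.Prime := CharP.char_is_prime F p
  have hfV : Finite V := Module.finite_of_finite F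
  have hQ := hG.nondeg
  have hVn : Nontrivial V := Module.nontrivial_of_finrank_pos (R := F) (by omega)
  have hlin : ∀ i, IsLin (M i) := fun i a v => by rw [hTM, hTM, map_smul]
  have hcv : ∀ i j v, T i (T j v) = T j (T i v) := fun i j v => LinearEquiv.congr_fun (hTc i j) v
  -- two members
  obtain ⟨i₁⟩ : Nonempty ι := by
    obtain ⟨ω⟩ := ‹Nonempty Ω›
    obtain ⟨i, -⟩ := hcov ω
    exact ⟨i⟩
  have htwo : ∀ i, ∃ j, j ≠ i := fun i => Cov.two hE hcov hx.ne i
  obtain ⟨i₂, hi₂⟩ := htwo i₁
  have hSne : Nonempty {i : ι // r i ≠ p} := by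
    by_cases h1 : r i₁ = p
    · exact ⟨⟨i₂, fun h2 => hi₂ (hx.inj (h2.trans h1.symm))⟩⟩
    · exact ⟨⟨i₁, h1⟩⟩
  have hnsc : ∀ i (a : F), a ≠ 0 → ¬ ∀ v, T i v = a • v := by
    intro i a ha h1
    apply hx.ne i
    rw [(hl i).eq_one_iff hG hE hρ]
    exact ⟨a, ha, fun v => by rw [hTM, h1]⟩
  have hns : ∀ i, T i ≠ 1 ∧ ∃ v, T i v ≠ -v := by
    intro i
    constructor
    · intro h1
      exact hnsc i 1 one_ne_zero fun v => by rw [h1, one_smul]; rfl
    · by_contra h1
      push Not at h1
      exact hnsc i (-1) (neg_ne_zero.2 one_ne_zero) fun v => by rw [h1, neg_one_smul]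
  have hadjC : ∀ (f : V →ₗ[F] V), f ∈ Algebra.adjoin F
      (Set.range fun i : {i : ι // r i ≠ p} => ((T i : V →ₗ[F] V))) →
      ∀ (g : V →ₗ[F] V), (∀ i : {i : ι // r i ≠ p}, ∀ v, g (T i v) = T i (g v)) →
        ∀ v, g (f v) = f (g v) := by
    intro f hf g hg
    induction hf using Algebra.adjoin_induction with
    | mem z hz =>
      obtain ⟨i, rfl⟩ := hz
      exact hg i
    | algebraMap a =>
      intro v
      show g (a • v) = a • g v
      exact map_smul g a v
    | add a b _ _ ha hb =>
      intro v
      show g (a v + b v) = a (g v) + b (g v)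
      rw [map_add, ha, hb]
    | mul a b _ _ ha hb =>
      intro v
      show g (a (b v)) = a (b (g v))
      rw [ha, hb]
  have hadjT : ∀ (f : V →ₗ[F] V), f ∈ Algebra.adjoin F
      (Set.range fun i : {i : ι // r i ≠ p} => ((T i : V →ₗ[F] V))) →
      ∀ i v, T i (f v) = f (T i v) := fun f hf i v =>
    hadjC f hf (T i : V →ₗ[F] V) (fun j w => hcv i j w) v
  -- involutions in odd characteristic
  have hinv : p ≠ 2 → ∀ i, r i ≠ 2 := by
    intro hp2 i hi
    apply hnoD
    have h2 : (2 : F) ≠ 0 := by
      intro h0
      have h1 : ((2 : ℕ) : F) = 0 := by exact_mod_cast h0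
      rw [CharP.cast_eq_zero_iff F p] at h1
      exact hp2 ((Nat.prime_dvd_prime_iff_eq hpp Nat.prime_two).1 h1)
    have hT2 : ∀ v, T i (T i v) = v := by
      intro v
      have h1 := hTr i
      rw [hi, pow_two] at h1
      exact LinearEquiv.congr_fun h1 v
    refine ⟨LinearMap.ker ((T i : V →ₗ[F] V) - LinearMap.id), ?_, ?_, ?_, ?_⟩
    · intro h0
      obtain ⟨v, hv⟩ := (hns i).2
      have h1 : T i v + v ∈ LinearMap.ker ((T i : V →ₗ[F] V) - LinearMap.id) := by
        rw [LinearMap.mem_ker]
        show T i (T i v + v) - (T i v + v) = 0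
        rw [map_add, hT2]
        abel
      rw [h0, Submodule.mem_bot] at h1
      exact hv (eq_neg_of_add_eq_zero_left h1)
    · intro h0
      apply (hns i).1
      ext v
      have h1 : v ∈ LinearMap.ker ((T i : V →ₗ[F] V) - LinearMap.id) := by rw [h0]; trivial
      rw [LinearMap.mem_ker] at h1
      exact sub_eq_zero.1 h1
    · rintro ⟨y, hy⟩ h0
      apply Subtype.ext
      show y = 0
      rw [LinearMap.mem_ker] at hy
      have hy' : T i y = y := sub_eq_zero.1 hy
      apply hQ
      intro z
      have h1 : T i z + z ∈ LinearMap.ker ((T i : V →ₗ[F] V) - LinearMap.id) := by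
        rw [LinearMap.mem_ker]
        show T i (T i z + z) - (T i z + z) = 0
        rw [map_add, hT2]
        abel
      have h3 : polar Q y (T i z + z) = 0 := h0 ⟨_, h1⟩
      have h4 : polar Q y (T i z) = polar Q y z := by
        conv_lhs => rw [← hy']
        exact polar_O (hTO i) y z
      rw [polar_add_right, h4, ← two_mul] at h3
      exact (mul_eq_zero.1 h3).resolve_left h2
    · intro f hf v hv
      have hi' : r i ≠ p := by rw [hi]; exact fun h => hp2 h.symm
      rw [LinearMap.mem_ker] at hv ⊢
      have hv' : T i v = v := sub_eq_zero.1 hv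
      show T i (f v) - f v = 0
      rw [← hf ⟨i, hi'⟩ v, sub_eq_zero]
      show f (T i v) = f v
      rw [hv']
  rcases Cfsg.Agent.H595.RC.box_G1 hQ (p := p) (fun i : {i : ι // r i ≠ p} => T i) (fun i => r i)
      (fun i => hTO i) (fun i => hx.prime i) (fun i => i.2) (fun i => hTr i) (fun i j => hTc i j)
      (fun i => hns i) with
    ⟨D, h1, h2, h3, h4⟩ | ⟨W, W', hWW, hW, hW', hWB, hWB', hfld⟩ | ⟨κ, s, t, hκA, hκ, hirr, hQκ⟩ |
    ⟨κ, s, t, hκA, hκ, hirr, hadj, h2κ, hfour⟩
  · exact hnoD ⟨D, h1, h2, h3, h4⟩
  · have hTW : ∀ i, ∀ v ∈ W, T i v ∈ W := fun i v hv =>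
      hWB (T i : V →ₗ[F] V) (fun j w => hcv i j w) v hv
    have hTW' : ∀ i, ∀ v ∈ W', T i v ∈ W' := fun i v hv =>
      hWB' (T i : V →ₗ[F] V) (fun j w => hcv i j w) v hv
    by_cases h82 : Nat.card F = 2 ∧ Module.finrank F V = 8
    · obtain ⟨hq, hn⟩ := h82
      have hF2 : ∀ a : F, a = 0 ∨ a = 1 := by
        intro a
        have := Fintype.ofFinite F
        rw [Nat.card_eq_fintype_card] at hq
        by_contra hno
        push Not at hno
        have h3 : ({0, 1, a} : Finset F).card ≤ Fintype.card F := Finset.card_le_univ _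
        rw [Finset.card_insert_of_notMem (by
          simp only [Finset.mem_insert, Finset.mem_singleton, not_or]
          exact ⟨zero_ne_one, hno.1.symm⟩), Finset.card_insert_of_notMem (by
          simp only [Finset.mem_singleton]
          exact hno.2.symm), Finset.card_singleton, hq] at h3
        omega
      have h20 : (2 : F) = 0 := by
        rcases hF2 2 with h | h
        · exact h
        · exfalso
          have : (1 : F) = 0 := by linear_combination h
          exact one_ne_zero this
      have hp2 : p = 2 := by
        have h1 : ((2 : ℕ) : F) = 0 := by exact_mod_cast h20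
        rw [CharP.cast_eq_zero_iff F p] at h1
        exact (Nat.prime_dvd_prime_iff_eq hpp Nat.prime_two).1 h1
      have hdW : Module.finrank F W = 4 := by
        have h1 := two_fin hQ hW
        have h3 := two_fin hQ hW'
        have h4 := Submodule.finrank_add_eq_of_isCompl hWW
        omega
      have hcW : Nat.card W = 16 := by
        rw [Module.natCard_eq_pow_finrank (K := F), hq, hdW]
        norm_num
      -- no fixed vectors on `W`
      have hfix : ∀ j : {i : ι // r i ≠ p}, ∀ v ∈ W, T j v = v → v = 0 := by
        intro j v hv hvj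
        by_contra hv0
        have h1 : ((T j : V →ₗ[F] V) - 1) ∈ Algebra.adjoin F
            (Set.range fun i : {i : ι // r i ≠ p} => ((T i : V →ₗ[F] V))) :=
          Subalgebra.sub_mem _ (Algebra.subset_adjoin ⟨j, rfl⟩) (Subalgebra.one_mem _)
        have h3 := hfld v hv hv0 _ h1 (by
          show T j v - v = 0
          rw [hvj, sub_self])
        apply (hns j).1
        exact eq_one_of_W hQ hWW hW' (hTO j) (hTW' j) fun w hw => sub_eq_zero.1 (h3 w hw)
      have hdvd : ∀ j : {i : ι // r i ≠ p}, r j ∣ 15 := by
        intro j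
        have h1 := card_modEq (hx.prime j) (hTr j) W (hTW j) (hfix j)
        rw [hcW] at h1
        have h3 := (Nat.modEq_iff_dvd' (by norm_num)).1 h1.symm
        simpa using h3
      by_cases h3 : ∃ j : {i : ι // r i ≠ p}, r j = 3
      · obtain ⟨j, hj⟩ := h3
        have hT3 : ∀ v, T j (T j (T j v)) = v := by
          intro v
          have h1 := hTr j
          rw [hj] at h1
          have h4 := LinearEquiv.congr_fun h1 v
          exact h4
        -- `T² + T + 1 = 0` on `W`
        have hW3 : ∀ w ∈ W, T j (T j w) + T j w + w = 0 := by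
          intro w hw
          apply hfix j _ (W.add_mem (W.add_mem (hTW j _ (hTW j _ hw)) (hTW j _ hw)) hw)
          rw [map_add, map_add, hT3]
          abel
        have hW3' : ∀ w ∈ W', T j (T j w) + T j w + w = 0 := by
          intro w' hw'
          refine zero_of_perp hQ hWW hW'
            (W'.add_mem (W'.add_mem (hTW' j _ (hTW' j _ hw')) (hTW' j _ hw')) hw') fun w hw => ?_
          have e1 : polar Q w (T j (T j w')) = polar Q (T j w) w' := by
            conv_lhs => rw [← hT3 w]
            rw [polar_O (hTO j), polar_O (hTO j)]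
          have e2 : polar Q w (T j w') = polar Q (T j (T j w)) w' := by
            conv_lhs => rw [← hT3 w]
            rw [polar_O (hTO j)]
          rw [polar_add_right, polar_add_right, e1, e2, ← polar_add_left, ← polar_add_left]
          have h4 : T j w + T j (T j w) + w = 0 := by
            rw [← hW3 w hw]
            abel
          rw [h4, polar_zero_left]
        have hall : ∀ v, T j (T j v) + T j v + v = 0 := by
          intro v
          have hy : v ∈ W ⊔ W' := by rw [hWW.sup_eq_top]; trivial
          obtain ⟨w, hw, w', hw', rfl⟩ := Submodule.mem_sup.1 hy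
          simp only [map_add]
          have a1 := hW3 w hw
          have a2 := hW3' w' hw'
          calc _ = (T j (T j w) + T j w + w) + (T j (T j w') + T j w' + w') := by abel
            _ = 0 := by rw [a1, a2, add_zero]
        refine hC hG hE hρ hIH (p := p) hl hlin hx hcov h8 (T j : V →ₗ[F] V) (-1) 1 ?_ ?_ ?_ ?_
        · intro v
          show T j (T j v) = (-1 : F) • T j v - (1 : F) • v
          rw [neg_one_smul, one_smul]
          have h4 := hall v
          rw [add_assoc] at h4
          rw [eq_neg_of_add_eq_zero_left h4]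
          abel
        · intro a
          rcases hF2 a with rfl | rfl
          · norm_num
          · intro h4
            have : (1 : F) = 0 := by linear_combination h4 - h20
            exact one_ne_zero this
        · intro v
          rw [one_mul]
          exact hTO j v
        · intro i v
          rw [hTM, hTM]
          exact hcv i j v
      · push Not at h3
        have h5 : ∀ j : {i : ι // r i ≠ p}, r j = 5 := by
          intro j
          have h1 := hdvd j
          have h4 : r j ∣ 3 * 5 := h1
          rcases (Nat.Prime.dvd_mul (hx.prime j)).1 h4 with h6 | h6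
          · exact ((h3 j) ((Nat.prime_dvd_prime_iff_eq (hx.prime j) Nat.prime_three).1 h6)).elim
          · exact (Nat.prime_dvd_prime_iff_eq (hx.prime j) Nat.prime_five).1 h6
        obtain ⟨j⟩ := hSne
        obtain ⟨i, hij⟩ := htwo j
        have hip : r i = p := by
          by_contra h6
          exact hij (hx.inj ((h5 ⟨i, h6⟩).trans (h5 j).symm))
        have hu2 : ∀ v, T i (T i v) = v := by
          intro v
          have h1 := hTr i
          rw [hip, hp2, pow_two] at h1
          exact LinearEquiv.congr_fun h1 v
        -- `u = 1` on `W`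
        apply (hns i).1
        refine eq_one_of_W hQ hWW hW' (hTO i) (hTW' i) ?_
        let K : Submodule F V := W ⊓ LinearMap.ker ((T i : V →ₗ[F] V) - LinearMap.id)
        have hKm : ∀ v, v ∈ K ↔ v ∈ W ∧ T i v = v := by
          intro v
          rw [Submodule.mem_inf, LinearMap.mem_ker]
          exact and_congr Iff.rfl sub_eq_zero
        have hKT : ∀ v ∈ K, T j v ∈ K := by
          intro v hv
          rw [hKm] at hv ⊢
          exact ⟨hTW j v hv.1, by rw [hcv, hv.2]⟩
        have h6 := card_modEq (hx.prime j) (hTr j) K hKT fun v hv hv' =>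
          hfix j v ((hKm v).1 hv).1 hv'
        have hK4 : Module.finrank F K ≤ 4 := by
          rw [← hdW]
          exact Submodule.finrank_mono inf_le_left
        rw [Module.natCard_eq_pow_finrank (K := F), hq, h5 j] at h6
        have hK0 : Module.finrank F K ≠ 0 := by
          intro h7
          have hKb : K = ⊥ := Submodule.finrank_eq_zero.1 h7
          have hW0 : ∃ w ∈ W, w ≠ 0 := by
            by_contra hno
            push Not at hno
            have : W = ⊥ := by
              rw [Submodule.eq_bot_iff]
              exact hno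
            rw [this, finrank_bot] at hdW
            omega
          obtain ⟨w, hw, hw0⟩ := hW0
          have h9 : T i w + w ∈ K := by
            rw [hKm]
            refine ⟨W.add_mem (hTW i w hw) hw, ?_⟩
            rw [map_add, hu2]
            abel
          rw [hKb, Submodule.mem_bot] at h9
          have h10 : T i w = w := by
            have h11 := eq_neg_of_add_eq_zero_left h9
            rw [h11]
            have h12 : (2 : F) • w = 0 := by rw [h20, zero_smul]
            rw [two_smul] at h12
            exact (eq_neg_of_add_eq_zero_left h12).symm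
          have h13 : w ∈ K := (hKm w).2 ⟨hw, h10⟩
          rw [hKb, Submodule.mem_bot] at h13
          exact hw0 h13
        have hKe : Module.finrank F K = 4 := by
          have h14 : Module.finrank F K = 1 ∨ Module.finrank F K = 2 ∨ Module.finrank F K = 3 ∨
              Module.finrank F K = 4 := by omega
          rcases h14 with h | h | h | h
          · rw [h] at h6; exact absurd h6 (by decide)
          · rw [h] at h6; exact absurd h6 (by decide)
          · rw [h] at h6; exact absurd h6 (by decide)
          · exact h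
        have hKW : K = W := Submodule.eq_of_le_of_finrank_eq inf_le_left (hKe.trans hdW.symm)
        intro w hw
        rw [← hKW, hKm] at hw
        exact hw.2
    · exact hB hG hE hρ hIH (p := p) hl hlin hx hcov h8 h82 W W' hWW hW hW'
        (fun i v hv => by rw [hTM]; exact hTW i v hv) (fun i v hv => by rw [hTM]; exact hTW' i v hv)
  · exact hC hG hE hρ hIH (p := p) hl hlin hx hcov h8 κ s t hκ hirr hQκ fun i v => by
      rw [hTM, hTM]; exact hadjT κ hκA i v
  · have hcom : ∀ i v, (M i).1 (κ v) = κ ((M i).1 v) := fun i v => by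
      rw [hTM, hTM]; exact hadjT κ hκA i v
    by_cases h10 : 10 ≤ Module.finrank F V
    · exact hD5 hG hE hρ hIH (p := p) hl hlin hx hcov h10 κ s t hκ hirr hadj h2κ hcom
    have hn : Module.finrank F V = 8 := by
      obtain ⟨k, hk⟩ := heven
      omega
    by_cases hp2 : p = 2 ∧ ∃ i, r i = 2
    · -- an involution in characteristic two
      obtain ⟨hp2, i, hi⟩ := hp2
      have h20 : (2 : F) = 0 := by
        subst hp2
        exact_mod_cast CharP.cast_eq_zero F 2
      have hneg : ∀ v : V, v + v = 0 := by
        intro v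
        rw [← two_smul F v, h20, zero_smul]
      have hu2 : ∀ v, T i (T i v) = v := by
        intro v
        have h1 := hTr i
        rw [hi, pow_two] at h1
        exact LinearEquiv.congr_fun h1 v
      -- no common fixed vectors of `S`
      have hnf : ∀ v, (∀ j : {i : ι // r i ≠ p}, T j v = v) → v = 0 := by
        intro v hv
        by_contra hv0
        have h1 := hfour v hv0 (F ∙ v) (Submodule.mem_span_singleton_self v) (by
          intro j w hw
          obtain ⟨a, rfl⟩ := Submodule.mem_span_singleton.1 hw
          show T j (a • v) ∈ _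
          rw [map_smul, hv j]
          exact hw)
        rw [finrank_span_singleton hv0] at h1
        omega
      let Nn : V →ₗ[F] V := (T i : V →ₗ[F] V) + LinearMap.id
      have hNv : ∀ v, Nn v = T i v + v := fun v => rfl
      -- `polar (N v) v = 0`
      have hg0 : ∀ v, polar Q (T i v) v = 0 := by
        -- an additive function which is `F`-semilinear
        have hadd : ∀ v w, polar Q (T i (v + w)) (v + w) = polar Q (T i v) v + polar Q (T i w) w := by
          intro v w
          have h1 : polar Q (T i v) w = polar Q v (T i w) := by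
            conv_lhs => rw [← hu2 w]
            exact polar_O (hTO i) _ _
          rw [map_add, polar_add_left, polar_add_right, polar_add_right, h1, polar_comm Q (T i w) v]
          linear_combination (polar Q v (T i w)) * h20
        have hsm : ∀ (a : F) v, polar Q (T i (a • v)) (a • v) = a ^ 2 * polar Q (T i v) v := by
          intro a v
          rw [map_smul, polar_smul_left, polar_smul_right, smul_eq_mul, smul_eq_mul]
          ring
        have : CharP F 2 := by
          rw [← hp2]; infer_instance
        have hex : ExpChar F 2 := ExpChar.prime Nat.prime_two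
        -- the square root
        have hsq : Function.Bijective (fun a : F => a ^ 2) := by
          have h1 : Function.Injective (fun a : F => a ^ 2) := by
            intro a b hab
            have h3 : (a - b) ^ 2 = 0 := by
              have h4 : a ^ 2 = b ^ 2 := hab
              linear_combination h4 - (a * b - b ^ 2) * h20
            exact sub_eq_zero.1 (pow_eq_zero_iff two_ne_zero |>.1 h3)
          exact Finite.injective_iff_bijective.1 h1
        let sq : F ≃ F := Equiv.ofBijective _ hsq
        have hsqv : ∀ a : F, (sq.symm a) ^ 2 = a := fun a => sq.apply_symm_apply a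
        have hsqi : ∀ a b : F, a ^ 2 = b ^ 2 → a = b := fun a b h => hsq.1 h
        let ℓ : V →ₗ[F] F :=
          { toFun := fun v => sq.symm (polar Q (T i v) v)
            map_add' := by
              intro v w
              apply hsqi
              rw [hsqv, hadd, add_pow_two, hsqv, hsqv]
              linear_combination -(sq.symm (polar Q (T i v) v) * sq.symm (polar Q (T i w) w)) * h20
            map_smul' := by
              intro a v
              apply hsqi
              rw [hsqv, hsm, RingHom.id_apply, smul_eq_mul, mul_pow, hsqv] }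
        have hℓ : ∀ v, ℓ v ^ 2 = polar Q (T i v) v := fun v => hsqv _
        -- it is represented by a vector
        obtain ⟨a, ha⟩ : ∃ a : V, ∀ v, ℓ v = polar Q a v := by
          have h1 : Function.Injective (polarBilin Q : V →ₗ[F] Module.Dual F V) := by
            rw [← LinearMap.ker_eq_bot, LinearMap.ker_eq_bot']
            intro v hv
            apply hQ
            intro y
            exact LinearMap.congr_fun hv y
          have h2 : Function.Surjective (polarBilin Q : V →ₗ[F] Module.Dual F V) :=
            (LinearMap.injective_iff_surjective_of_finrank_eq_finrank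
              Subspace.dual_finrank_eq.symm).1 h1
          obtain ⟨a, ha⟩ := h2 ℓ
          exact ⟨a, fun v => (LinearMap.congr_fun ha v).symm⟩
        have ha0 : a = 0 := by
          apply hnf
          intro j
          rw [← sub_eq_zero]
          apply hQ
          intro y
          obtain ⟨y, rfl⟩ := (T j).surjective y
          rw [polar_sub_left, polar_O (hTO j), sub_eq_zero, ← ha, ← ha]
          apply hsqi
          rw [hℓ, hℓ, hcv i j, polar_O (hTO j)]
        intro v
        rw [← hℓ, ha, ha0, polar_zero_left]
        simp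
      have hQN : ∀ v, Q (Nn v) = 0 := by
        intro v
        rw [hNv]
        have h1 : Q (T i v + v) = Q (T i v) + Q v + polar Q (T i v) v := by rw [polar]; ring
        rw [h1, hTO i, hg0]
        linear_combination (Q v) * h20
      have hU : ∀ v ∈ LinearMap.range Nn, Q v = 0 := by
        rintro _ ⟨v, rfl⟩
        exact hQN v
      have hU1 := two_fin hQ hU
      obtain ⟨v₀, hv₀⟩ : ∃ v, Nn v ≠ 0 := by
        by_contra hno
        push Not at hno
        apply (hns i).1
        ext v
        have h1 := hno v
        rw [hNv] at h1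
        have h3 := eq_neg_of_add_eq_zero_left h1
        rw [h3]
        exact (eq_neg_of_add_eq_zero_left (hneg v)).symm
      have hU2 := hfour (Nn v₀) hv₀ (LinearMap.range Nn) ⟨v₀, rfl⟩ (by
        rintro j _ ⟨v, rfl⟩
        refine ⟨T j v, ?_⟩
        show T i (T j v) + T j v = T j (T i v + v)
        rw [map_add, hcv])
      refine hD4p hG hE hρ hIH (p := p) hl hlin hx hcov hn κ s t hκ hirr hadj h2κ hcom
        (LinearMap.range Nn) hU ?_ (by omega) ?_
      · rintro _ ⟨v, rfl⟩
        refine ⟨κ v, ?_⟩
        rw [hNv, hNv, map_add, hadjT κ hκA]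
      · intro i' hi'
        have : i' = i := hx.inj (hi'.trans hi.symm)
        subst this
        right
        refine ⟨h20, Or.inl ?_⟩
        rintro _ ⟨v, rfl⟩
        rw [hTM]
        refine ⟨T i' v, ?_⟩
        rw [hNv, hNv, map_add]
    · have hodd : ∀ i, r i ≠ 2 := by
        intro i hi
        by_cases h1 : p = 2
        · exact hp2 ⟨h1, i, hi⟩
        · exact hinv h1 i hi
      by_cases hU : ∃ U : Submodule F V, (∀ v ∈ U, Q v = 0) ∧ (∀ v ∈ U, κ v ∈ U) ∧
          Module.finrank F U = 4
      · obtain ⟨U, h1, h3, h4⟩ := hU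
        exact hD4p hG hE hρ hIH (p := p) hl hlin hx hcov hn κ s t hκ hirr hadj h2κ hcom U h1 h3 h4
          fun i hi => (hodd i hi).elim
      · push Not at hU
        exact hD4m hG hE hρ hIH (p := p) hl hlin hx hcov hn κ s t hκ hirr hadj h2κ hcom
          fun U h1 h3 => hU U h1 h3

end main

open Cfsg.Agent.H721.RC in
/-- **Box H** -/
theorem box_H_of (hB : BoxB) (hC : BoxC) (hD5 : BoxD5) (hD4m : BoxD4m) (hD4p : BoxD4p) : BoxH := by
  intro p F V _ _ _ _ _ Q G Ω _ _ _ _ N ρ hG hE hρ hIH _ ι _ x M r hl hx hcov h8 heven T hTO hTM hTr hTc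
  exact box_H_core hB hC hD5 hD4m hD4p hG hE hρ hIH hl hx hcov h8 heven T hTO hTM hTr hTc

end Cfsg.Agent.H93.RC
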