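import Cfsg.Agent.H195.RC.TwRoot
import Cfsg.Agent.H864.RC.Def3
import Cfsg.Agent.H256.RC.ZBase

/-!
# S3510, triality type iii, mixed case, `p ≥ 5`: the sieve (helper93, after helper205)

* `sieve` : an additive subgroup `A` of `F` with `a⁴ ∈ A` or `a⁴ (s t - t) ∈ A` for all `t`, for each `a ≠ 0`, contains `1`;
* `dead_of_grading` : `u = g i₀` in a one-parameter group `G t` with `x₁ G t x₁⁻¹ = G (s t)`, `T a G t T a⁻¹ = G (a⁴ t)`.
-/

set_option autoImplicit false
open Cfsg

namespace Cfsg.Agent.H93.RC.Mix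

open Module QuadraticMap MulAction
open Cfsg.Agent.LieClassical.OrthCore Cfsg.Agent.LieClassical.OrthTrans
open Cfsg.Agent.LieClassical.OrthSimple Cfsg.Agent.ClassicalGeometry.OrthSemi
open Cfsg.Agent.ClassicalGeometry.OrthAut1 Cfsg.Agent.H106.RC Cfsg.Agent.H93.RC Cfsg.Agent.H566.RC
open Cfsg.Agent.LieClassical.QuadForms Cfsg.Agent.ClassicalGeometry.TrialityOct
open Cfsg.Agent.ClassicalGeometry.Triality Cfsg.Agent.ClassicalGeometry.TrialitySpaces
open Cfsg.Agent.H198.TriBase Cfsg.Agent.H198.TriAut Cfsg.Agent.H206.Balance Cfsg.Agent.H198.TriDia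
open Cfsg.Agent.H864.RC

theorem sieve {F : Type} [Field F] [Finite F] {s : F ≃+* F} (h3 : ∀ a, s (s (s a)) = a)
    (hne : s ≠ RingEquiv.refl F) {p : ℕ} [CharP F p] (hp5 : 5 ≤ p) (A : AddSubgroup F)
    (hA : ∀ a : F, a ≠ 0 → a ^ 4 ∈ A ∨ ∀ t, a ^ 4 * (s t - t) ∈ A) : (1 : F) ∈ A := by
  classical
  by_contra h1
  cases nonempty_fintype F
  obtain ⟨q0, hq2, hq, hqp, hfix, -⟩ := Cfsg.Agent.H256.RC.BQ h3 hne
  have hpp : p.Prime := (CharP.char_is_prime_or_zero F p).resolve_right (by omega)
  have : Fact p.Prime := ⟨hpp⟩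
  -- `5 ≤ q0`
  have hpq : p ≤ q0 := by
    have h2 : p ∣ Nat.card F := by
      have := (CharP.cast_eq_zero_iff F p (Nat.card F)).1 (by
        rw [Nat.card_eq_fintype_card]; exact FiniteField.cast_card_eq_zero F)
      exact this
    rw [hq] at h2
    exact Nat.le_of_dvd (by omega) (hpp.dvd_of_dvd_pow h2)
  have hq05 : 5 ≤ q0 := hp5.trans hpq
  -- `5 |A| ≤ q`
  have hAle : 5 * Nat.card A ≤ Nat.card F := by
    have h2 := A.card_mul_index
    have h4 : A.index ≠ 1 := by
      intro h
      rw [AddSubgroup.index_eq_one] at h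
      exact h1 (h ▸ AddSubgroup.mem_top _)
    have h5 : A.index ≠ 0 := AddSubgroup.index_ne_zero_of_finite
    have h6 : p ∣ A.index := by
      let _ : Algebra (ZMod p) F := ZMod.algebra F p
      have h7 : Nat.card F = p ^ Module.finrank (ZMod p) F := by
        have := Module.natCard_eq_pow_finrank (K := ZMod p) (V := F)
        rwa [Nat.card_zmod] at this
      have h8 : A.index ∣ p ^ Module.finrank (ZMod p) F := by
        rw [← h7, ← h2]; exact Dvd.intro_left _ rfl
      obtain ⟨k, -, hk⟩ := (Nat.dvd_prime_pow hpp).1 h8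
      rcases Nat.eq_zero_or_pos k with h0 | h0
      · rw [h0, pow_zero] at hk; exact absurd hk h4
      · rw [hk]; exact dvd_pow_self p (by omega)
    have h7 : 5 ≤ A.index := hp5.trans (Nat.le_of_dvd (by omega) h6)
    calc 5 * Nat.card A ≤ A.index * Nat.card A := Nat.mul_le_mul_right _ h7
      _ = Nat.card F := by rw [mul_comm]; exact h2
  -- the fourth powers
  set U : Finset F := Finset.univ.filter (fun a => a ≠ 0) with hU
  set S : Finset F := U.image (fun a => a ^ 4) with hS
  have hUc : U.card = Nat.card F - 1 := by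
    rw [hU, Finset.filter_ne', Finset.card_erase_of_mem (Finset.mem_univ _), Finset.card_univ, Nat.card_eq_fintype_card]
  have hSc : U.card ≤ 4 * S.card := by
    rw [hS]
    refine Finset.card_le_mul_card_image U 4 ?_
    intro b _
    have h2 : U.filter (fun a => a ^ 4 = b) ⊆ (Polynomial.nthRoots 4 b).toFinset := by
      intro a ha
      rw [Finset.mem_filter] at ha
      rw [Multiset.mem_toFinset, Polynomial.mem_nthRoots (by norm_num)]
      exact ha.2
    exact (Finset.card_le_card h2).trans ((Multiset.toFinset_card_le _).trans (Polynomial.card_nthRoots 4 b))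
  -- the two kinds
  set S1 : Finset F := Finset.univ.filter (fun b => b ∈ A ∧ b ≠ 0) with hS1
  set S2 : Finset F := Finset.univ.filter (fun b => b ≠ 0 ∧ ∀ t, b * (s t - t) ∈ A) with hS2
  have hsub : S ⊆ S1 ∪ S2 := by
    intro b hb
    rw [hS, Finset.mem_image] at hb
    obtain ⟨a, ha, rfl⟩ := hb
    have ha0 : a ≠ 0 := (Finset.mem_filter.1 ha).2
    have ha4 : a ^ 4 ≠ 0 := pow_ne_zero 4 ha0
    rw [Finset.mem_union]
    rcases hA a ha0 with h | h
    · exact Or.inl (Finset.mem_filter.2 ⟨Finset.mem_univ _, h, ha4⟩)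
    · exact Or.inr (Finset.mem_filter.2 ⟨Finset.mem_univ _, ha4, h⟩)
  have hS1c : S1.card + 1 ≤ Nat.card A := by
    have h2 : insert (0 : F) S1 ⊆ Finset.univ.filter (fun b => b ∈ A) := by
      intro b hb
      rw [Finset.mem_insert] at hb
      rcases hb with rfl | hb
      · exact Finset.mem_filter.2 ⟨Finset.mem_univ _, A.zero_mem⟩
      · exact Finset.mem_filter.2 ⟨Finset.mem_univ _, (Finset.mem_filter.1 hb).2.1⟩
    have h4 : (0 : F) ∉ S1 := fun h => (Finset.mem_filter.1 h).2.2 rfl
    have h5 := Finset.card_le_card h2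
    rw [Finset.card_insert_of_notMem h4] at h5
    have h6 : (Finset.univ.filter (fun b => b ∈ A)).card = Nat.card A := by
      rw [Nat.card_eq_fintype_card, ← Fintype.card_coe]
      exact Fintype.card_congr (Equiv.subtypeEquivRight (by simp))
    rw [h6] at h5
    exact h5
  have hS2c : S2.card + 1 ≤ q0 := by
    rcases S2.eq_empty_or_nonempty with h0 | ⟨b₂, hb₂⟩
    · rw [h0, Finset.card_empty]; omega
    obtain ⟨-, hb20, hb2⟩ := Finset.mem_filter.1 hb₂
    have key : ∀ b ∈ S2, s (b / b₂) = b / b₂ := by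
      intro b hb
      obtain ⟨-, hb0, hb'⟩ := Finset.mem_filter.1 hb
      by_contra hc
      set c := b / b₂ with hcd
      have hbc : b = b₂ * c := by rw [hcd, mul_div_cancel₀ _ hb20]
      have hs1 : ∀ t : F, b₂ * ((s c - c) * t) ∈ A := by
        intro t
        obtain ⟨t', rfl⟩ := s.surjective t
        have e1 := hb' t'
        have e2 := hb2 (c * t')
        rw [hbc] at e1
        have e3 := A.sub_mem e1 e2
        have e5 : b₂ * ((s c - c) * s t') = -(b₂ * c * (s t' - t') - b₂ * (s (c * t') - c * t')) := by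
          rw [map_mul]; ring
        rw [e5]
        exact A.neg_mem e3
      apply h1
      have h7 := hs1 ((s c - c)⁻¹ * b₂⁻¹)
      rwa [← mul_assoc (s c - c), mul_inv_cancel₀ (sub_ne_zero.2 hc), one_mul, mul_inv_cancel₀ hb20] at h7
    have h0S : (0 : F) ∉ S2 := fun h => (Finset.mem_filter.1 h).2.1 rfl
    have hP : (Polynomial.X ^ q0 - Polynomial.X : Polynomial F) ≠ 0 := by
      intro h
      have := FiniteField.X_pow_card_sub_X_natDegree_eq F (p := q0) (by omega)
      rw [h, Polynomial.natDegree_zero] at this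
      omega
    have h2 : (insert (0 : F) S2).image (fun b => b / b₂) ⊆ (Polynomial.X ^ q0 - Polynomial.X : Polynomial F).roots.toFinset := by
      intro c hc
      rw [Finset.mem_image] at hc
      obtain ⟨b, hb, rfl⟩ := hc
      have hsb : s (b / b₂) = b / b₂ := by
        rcases Finset.mem_insert.1 hb with rfl | hb
        · rw [zero_div, map_zero]
        · exact key b hb
      rw [Multiset.mem_toFinset, Polynomial.mem_roots hP, Polynomial.IsRoot.def, Polynomial.eval_sub, Polynomial.eval_pow,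
        Polynomial.eval_X, sub_eq_zero]
      exact (hfix _).1 hsb
    have h4 : ((insert (0 : F) S2).image (fun b => b / b₂)).card = S2.card + 1 := by
      rw [Finset.card_image_of_injective _ (fun a b h => (div_left_inj' hb20).1 h), Finset.card_insert_of_notMem h0S]
    have h5 := (Finset.card_le_card h2).trans ((Multiset.toFinset_card_le _).trans (Polynomial.card_roots' _))
    rw [h4, FiniteField.X_pow_card_sub_X_natDegree_eq F (p := q0) (by omega)] at h5
    exact h5
  have hfin := (Finset.card_le_card hsub).trans (Finset.card_union_le S1 S2)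
  have h9 : q0 ^ 3 ≤ 20 * q0 := by
    rw [← hq]
    omega
  nlinarith [Nat.pow_le_pow_left hq05 2]

section env

variable {F : Type} [Field F] {G Ω ι : Type} [Group G] [MulAction G Ω] {N : Subgroup G}
  {hG : Good (plusForm 4 F)} {κ : P8 F →* G} {s : F ≃+* F} {x₁ : G} {x : ι → G} {r : ι → ℕ}
  {g : ι → (V8 F ≃ₗ[F] V8 F)}

theorem up_comm (κ : P8 F →* G) {a b : ↥(E (plusForm 4 F))} (h : a * b = b * a) : up κ a * up κ b = up κ b * up κ a := by
  rw [← map_mul, h, map_mul]

/-- **the sieve**: `u = g i₀` lies in a one-parameter group permuted semilinearly by `x₁` -/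
theorem dead_of_grading [Finite F] [Finite ι] (h : T3 hG N κ s Ω x₁ x r g) (hN : NoN Ω N) {p : ℕ} [CharP F p]
    (hp5 : 5 ≤ p) (i₀ : ι) (A : F → ↥(E (plusForm 4 F))) (hadd : ∀ t t', A (t + t') = A t * A t')
    (hA1 : (A 1 : V8 F ≃ₗ[F] V8 F) = g i₀) (hx : ∀ t, x₁ * up κ (A t) * x₁⁻¹ = up κ (A (s t)))
    (hAg : ∀ t j, (A t : V8 F ≃ₗ[F] V8 F) * g j = g j * (A t : V8 F ≃ₗ[F] V8 F))
    (T : F → ↥(E (plusForm 4 F))) (hT : ∀ a, a ≠ 0 → ∀ t, T a * A t * (T a)⁻¹ = A (a ^ 4 * t))
    (hTg : ∀ a, a ≠ 0 → ∀ j, j ≠ i₀ → (T a : V8 F ≃ₗ[F] V8 F) * g j = g j * (T a : V8 F ≃ₗ[F] V8 F)) : False := by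
  classical
  have hxA : x i₀ = up κ (A 1) := by
    rw [h.x_eq]
    congr 1
    exact Subtype.ext hA1.symm
  have hAx : ∀ t j, x j * up κ (A t) = up κ (A t) * x j := by
    intro t j
    rw [h.x_eq]
    exact up_comm κ (Subtype.ext (hAg t j).symm)
  have hTx : ∀ a, a ≠ 0 → ∀ j, j ≠ i₀ → x j * (up κ (T a))⁻¹ = (up κ (T a))⁻¹ * x j := by
    intro a ha j hj
    rw [h.x_eq, ← map_inv, ← map_mul, ← map_mul]
    congr 1
    apply Subtype.ext
    have h1 := hTg a ha j hj
    have : g j * (T a : V8 F ≃ₗ[F] V8 F)⁻¹ = (T a : V8 F ≃ₗ[F] V8 F)⁻¹ * g j := by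
      rw [mul_inv_eq_iff_eq_mul, mul_assoc, ← h1, inv_mul_cancel_left]
    exact this
  have hA0 : A 0 = 1 := by
    have := hadd 0 0
    rw [add_zero] at this
    exact (mul_eq_left (a := A 0)).1 this.symm
  have hAneg : ∀ t, A (-t) = (A t)⁻¹ := by
    intro t
    rw [eq_inv_iff_mul_eq_one, ← hadd, neg_add_cancel, hA0]
  refine hN ι x r h.pf (fun ω => ?_) h.x_mem
  by_contra hω
  push Not at hω
  let B : AddSubgroup F :=
    { carrier := {t | up κ (A t) • ω = ω}
      zero_mem' := by
        change up κ (A 0) • ω = ω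
        rw [hA0, map_one, one_smul]
      add_mem' := by
        intro a b ha hb
        change up κ (A (a + b)) • ω = ω
        rw [hadd, map_mul, mul_smul, show up κ (A b) • ω = ω from hb, show up κ (A a) • ω = ω from ha]
      neg_mem' := by
        intro a ha
        change up κ (A (-a)) • ω = ω
        rw [hAneg, map_inv, inv_smul_eq_iff]
        exact (show up κ (A a) • ω = ω from ha).symm }
  have hB : ∀ t, t ∈ B ↔ up κ (A t) • ω = ω := fun t => Iff.rfl
  have h1 : (1 : F) ∈ B := by
    refine sieve h.cube h.ne hp5 B (fun a ha => ?_)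
    by_cases hb : a ^ 4 ∈ B
    · exact Or.inl hb
    right
    intro t
    set w := (up κ (T a))⁻¹ • ω with hw
    -- the points `A t • w` are fixed by `x₁`
    have hfix : ∀ t, x₁ • up κ (A t) • w = up κ (A t) • w := by
      intro t
      rcases h.cov (up κ (A t) • w) with h2 | ⟨j, h2⟩
      · exact h2
      exfalso
      rw [← mul_smul, hAx, mul_smul, smul_left_cancel_iff] at h2
      by_cases hj : j = i₀
      · rw [hj, hxA, hw, ← mul_smul, smul_eq_iff_eq_inv_smul, ← map_inv] at h2
        apply hb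
        rw [hB]
        have h4 := hT a ha 1
        rw [mul_one] at h4
        rw [← h4, map_mul, map_mul, map_inv, mul_smul, mul_smul, ← mul_smul (up κ (A 1))]
        rw [map_inv, ← smul_eq_iff_eq_inv_smul] at h2
        rw [h2, smul_inv_smul]
      · rw [hw, ← mul_smul, hTx a ha j hj, mul_smul, smul_left_cancel_iff] at h2
        exact hω j h2
    have h0 : x₁ • w = w := by
      have := hfix 0
      rwa [hA0, map_one, one_smul] at this
    have h5 : up κ (A (s t)) • w = up κ (A t) • w := by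
      rw [← hx, mul_smul, mul_smul, inv_smul_eq_iff.2 h0.symm, hfix]
    have h6 : up κ (A (s t - t)) • w = w := by
      rw [sub_eq_add_neg, add_comm, hadd, hAneg, map_mul, map_inv, mul_smul, h5, inv_smul_smul]
    rw [hB, ← hT a ha, map_mul, map_mul, map_inv, mul_smul, mul_smul, h6, hw, smul_inv_smul]
  apply hω i₀
  rw [hxA]
  exact h1

end env

end Cfsg.Agent.H93.RC.Mix
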